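import Cfsg.Agent.H996.PQ.LinkE8

/-!
# The link between the node `7` and the node `6` of `E₈`, constituent `35` (helper739, for S4612; made by a program)

As `H996/PQ/LinkE8.lean` with the constituent of degree `q^2 P5 P7 P10 P14 P15 P20 P30` at node `7` (`TabE8a.c2`):
`k2 = q Φ₄ Φ₈ Φ₂₄ k3`, and `K_c k3 c ≡ lam c * k3 o` modulo `Φ₄` and modulo `Φ₈`.
-/

set_option autoImplicit false
set_option maxRecDepth 20000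

namespace Cfsg.Agent.H739.PQ.E8L.LinkZ

open Cfsg.Agent.H967.Sph Cfsg.Agent.H64.Dl.Sph Cfsg.Agent.H996.Eight Cfsg.Agent.H996.Eight.Cert Cfsg.Agent.H996.PQ
  Cfsg.Agent.H996.PQ.Kr Cfsg.Agent.H996.PQ.LinkE8

/-- the polynomial of `W` -/
def W7 (s : Fin 240) : List ℤ :=
  pAdd (TabE8a.c2.nu (TabE8a.tab.cls s)) (if TabE8a.tab.vec s 7 < 0 then
    pAdd (TabE8a.c2.nu (TabE8a.tab.cls (TabE8a.tab.st 7 s))) (pMul [-1, 1] (TabE8a.c2.nu (TabE8a.tab.cls s)))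
    else 0 :: TabE8a.c2.nu (TabE8a.tab.cls (TabE8a.tab.st 7 s)))

theorem W7_st : ∀ i, i ≠ 6 → ∀ s, pEq (W7 (TabE8a.tab.st i s)) (W7 s) = true := by decide +kernel

def k0L : List (List ℤ) := [[0, 0, 0, 0, 0, 0, 0, 0, 0, 0, 0, 0, 0, 0, 0, 0, 0, 0, 0, 0, 0, 0, 0, 0, 0, 1, 2, 2, 1, 0, 0, 1, 2, 3, 4, 4, 3, 2, 1, 0, 0, 1, 2, 2, 1], [0, 0, 0, 0, 0, 0, 0, 0, 0, 0, 0, 0, 0, 0, 0, 0, 0, 0, 0, 0, 0, 0, 0, 0, -1, 0, 1, 2, 1, 0, -1, 0, 1, 3, 4, 4, 2, 1, 0, 0, 0, 1, 1, 1], [0, 0, 0, 0, 0, 0, 0, 0, 0, 0, 0, 0, 0, 0, 0, 0, 0, 0, 0, 0, 0, 0, 0, -1, -2, -1, 1, 2, 1, -1, -2, -1, 1, 3, 4, 3, 1], [0, 0, 0, 0, 0, 0, 0, 0, 0, 0, 0, 0, 0, 0, 0, 0, 0, 0, 0, 1, 0, 0, -1, -1, -2, 0, 1, 2, 1, 0, -1, 1, 1, 3, 3, 3, 1, 1, 0, 0, 0, 1, 1, 1], [0, 0, 0, 0, 0, 0, 0, 0, 0, 0, 0, 0, 0, 0, 0, 0, 0, 0, 0, 1, 0, 0, -1, -2,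 -3, -1, 1, 2, 1, -1, -2, 0, 1, 3, 3, 2], [0, 0, 0, 0, 0, 0, 0, 0, 0, 0, 0, 0, 0, 0, 0, 0, 0, 0, 1, 1, 0, -1, -2, -3, -3, -1, 1, 2, 1, -1, -1, 0, 1, 2, 2, 1], [0, 0, 0, 0, 0, 0, 0, 0, 0, 0, 0, 0, 0, 0, 0, 0, 0, 0, 1, 1, 0, -1, -2, -3, -3, -1, 1, 2, 1, -1, -1, 0, 1, 2, 2, 1], [0, 0, 0, 0, 0, 0, 0, 0, 0, 0, 0, 0, 0, 0, 0, 0, 0, 0, 1, 1, 0, -1, -2, -3, -3, -1, 1, 2, 1, -1, -1, 0, 1, 2, 2, 1], [0, 0, 0, 0, 0, 0, 0, 0, 0, 0, 0, 0, 0, 0, 0, 0, 0, 0, 2, 1, 0, -2, -3, -4, -3, -1, 1, 2, 1, -1, 0, 0, 1, 1, 1], [0, 0, 0, 0, 0, 0, 0, 0, 0, 0, 0, 1, 1, 1, 0, 0, -1, 0, 0, 1, 0, 0, -1, 0, -1, 1, 1, 2, 0, 0, -1, 1, 1, 3, 3, 3, 1, 1, 0, 0, 0, 1, 1, 1], [0, 0, 0, 0, 0, 0, 0, 0, 0, 0, 0, 0, 0, 0, 0, 0, 0, 1, 2, 1, -1, -3, -4, -4, -3, -1, 1, 2, 1], [0, 0, 0, 0, 0, 0, 0, 0, 0, 0, 0, 1, 1, 1, 0, 0, -1, 0, 1,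 1, 0, -1, -2, -2, -2, 0, 1, 2, 0, -1, -1, 0, 1, 2, 2, 1], [0, 0, 0, 0, 0, 0, 0, 0, 0, 0, 0, 1, 1, 1, 0, 0, -1, 0, 1, 1, 0, -1, -2, -2, -2, 0, 1, 2, 0, -1, -1, 0, 1, 2, 2, 1], [0, 0, 0, 0, 0, 0, 0, 0, 0, 0, 0, 1, 1, 1, 0, 0, -1, 0, 2, 1, 0, -2, -3, -3, -2, 0, 1, 2, 0, -1, 0, 0, 1, 1, 1], [0, 0, 0, 0, 0, 0, 0, 0, 0, 0, 0, 1, 1, 1, 0, 0, -1, 1, 2, 1, -1, -3, -4, -3, -2, 0, 1, 2], [0, 0, 0, 0, 0, 0, 0, 0, 0, 0, 1, 2, 2, 1, 0, -1, -1, 0, 2, 1, 0, -2, -2, -2, -1, 0, 1, 1, 0, -1, 0, 0, 1, 1, 1], [0, 0, 0, 0, 0, 0, 0, 0, 0, 0, 1, 2, 2, 1, 0, -1, -1, 0, 2, 1, 0, -2, -2, -2, -1, 0, 1, 1, 0, -1, 0, 0, 1, 1, 1], [0, 0, 0, 0, 0, 0, 0, 0, 0, 0, 1, 2, 2, 1, 0, -1, -1, 1, 2, 1, -1, -3, -3, -2, -1, 0, 1, 1], [0, 0, 0, 0, 0, 0, 0, 0, 0, 0, 1, 2, 2, 1, 0, -1, -1, 1, 2, 1, -1, -3, -3, -2, -1, 0, 1, 1], [0,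 0, 0, 0, 0, 0, 0, 0, 0, 0, 1, 2, 2, 1, 0, -1, -1, 1, 2, 1, -1, -3, -3, -2, -1, 0, 1, 1], [0, 0, 0, 0, 0, 0, 0, 0, 0, 0, 2, 3, 3, 1, 0, -2, -1, 1, 2, 1, -1, -3, -2, -1, 0, 0, 1], [0, 0, 0, 0, 0, 0, 0, 0, 0, 1, 3, 4, 3, 1, -1, -2, -1, 1, 2, 1, -1, -2, -1], [0, 0, 1, 1, 1, 0, 0, 0, 1, 1, 3, 3, 3, 1, 1, -1, 0, 0, 2, 1, 1, -1, 0, -1, 0, 0, 1, 0, 0, -1, 0, 0, 1, 1, 1], [0, 0, 1, 1, 1, 0, 0, 0, 1, 1, 3, 3, 3, 1, 1, -1, 0, 1, 2, 1, 0, -2, -1, -1, 0, 0, 1], [0, 0, 1, 1, 1, 0, 0, 0, 1, 2, 4, 4, 3, 1, 0, -1, 0, 1, 2, 1, 0, -1], [0, 1, 2, 2, 1, 0, 0, 1, 2, 3, 4, 4, 3, 2, 1, 0, 0, 1, 2, 2, 1]]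

def k1L : List (List ℤ) := [[0, 0, 0, 0, 0, 0, 0, 0, 0, 0, 0, 0, 0, 0, 0, 0, 0, 0, 0, 0, 0, 0, 0, 0, -1, -3, -4, -3, -3, -6, -9, -9, -9, -11, -12, -11, -11, -12, -11, -9, -9, -9, -6, -3, -3, -4, -3, -1], [0, 0, 0, 0, 0, 0, 0, 0, 0, 0, 0, 0, 0, 0, 0, 0, 0, 0, 0, 0, 0, 0, 0, 1, 1, -1, -3, -1, 1, -1, -5, -5, -6, -9, -10, -8, -9, -10, -8, -5, -5, -4, -2, -1, -2, -2, -1], [0, 0, 0, 0, 0, 0, 0, 0, 0, 0, 0, 0, 0, 0, 0, 0, 0, 0, 0, 0, 0, 0, 1, 3, 3, 0, -1, 3, 6, 3, -1, -2, -4, -7, -7, -6, -7, -7, -4, -1], [0, 0, 0, 0, 0, 0, 0, 0, 0, 0, 0, 0, 0, 0, 0, 0, 0, 0, -1, -1, 0, 1, 0, 1, 2, 1, -1, 2, 2, -3, -8, -7, -8, -9, -8, -6, -8, -8, -6, -4, -5, -4, -2, -1, -2, -2, -1], [0, 0, 0, 0, 0, 0, 0, 0, 0, 0, 0, 0, 0, 0, 0, 0, 0, 0, -1, -1, 0, 1, 1, 3, 4, 2, 1, 6, 7, 1, -4, -4, -6, -7, -5, -4, -6, -5, -2],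 [0, 0, 0, 0, 0, 0, 0, 0, 0, 0, 0, 0, 0, 0, 0, 0, 0, -1, -2, -1, 1, 2, 4, 8, 9, 5, 3, 5, 4, -1, -3, -2, -3, -4, -3, -3, -4, -3, -1], [0, 0, 0, 0, 0, 0, 0, 0, 0, 0, 0, 0, 0, 0, 0, 0, 0, -1, -2, -1, 1, 1, 1, 4, 6, 4, 4, 7, 5, -2, -6, -6, -6, -5, -3, -3, -4, -3, -1], [0, 0, 0, 0, 0, 0, 0, 0, 0, 0, 0, 0, 0, 0, 0, 0, 0, -1, -2, -1, 1, 1, 1, 4, 6, 4, 4, 7, 5, -2, -6, -6, -6, -5, -3, -3, -4, -3, -1], [0, 0, 0, 0, 0, 0, 0, 0, 0, 0, 0, 0, 0, 0, 0, 0, 0, -2, -3, -1, 2, 2, 4, 9, 11, 7, 6, 6, 2, -4, -5, -4, -3, -2, -1, -2, -2, -1], [0, 0, 0, 0, 0, 0, 0, 0, 0, 0, -1, -2, -2, -1, -2, -3, -3, -2, -3, -2, -1, -1, -3, -1, -1, -3, -5, -2, -3, -6, -8, -6, -8, -9, -8, -6, -8, -8, -6, -4, -5, -4, -2, -1, -2, -2, -1], [0, 0, 0, 0, 0, 0, 0, 0, 0, 0, 0, 0, 0, 0, 0, 0, -1, -3, -3, 0, 3, 5, 9, 14, 14, 9, 5, 3, 0,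 -3, -3, -1], [0, 0, 0, 0, 0, 0, 0, 0, 0, 0, -1, -2, -2, -1, -2, -3, -3, -3, -3, 1, 4, 3, 2, 5, 4, 0, 0, 4, 3, -1, -2, -1, -3, -4, -3, -3, -4, -3, -1], [0, 0, 0, 0, 0, 0, 0, 0, 0, 0, -1, -2, -2, -1, -2, -3, -3, -3, -4, -2, 0, -1, -2, 2, 3, 0, 0, 3, 0, -5, -6, -5, -6, -5, -3, -3, -4, -3, -1], [0, 0, 0, 0, 0, 0, 0, 0, 0, 0, -1, -2, -2, -1, -2, -3, -3, -4, -4, 1, 5, 3, 2, 6, 6, 2, 3, 5, 1, -4, -4, -3, -3, -2, -1, -2, -2, -1], [0, 0, 0, 0, 0, 0, 0, 0, 0, 0, -1, -2, -2, -1, -2, -3, -4, -5, -4, 2, 6, 6, 7, 11, 9, 4, 2, 2, -1, -3, -2], [0, 0, 0, 0, 0, 0, 0, 0, 0, -1, -3, -4, -3, -3, -4, -3, -1, -2, -1, 3, 4, 0, 0, 4, 5, 2, 3, 4, 1, -3, -3, -3, -3, -2, -1, -2, -2, -1], [0, 0, 0, 0, 0, 0, 0, 0, 0, -1, -3, -4, -3, -3, -5, -6, -5, -6, -5, 0, 3, 0, 0, 3, 2, -2, -1, 0, -2, -4, -3, -3, -3, -2, -1, -2,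 -2, -1], [0, 0, 0, 0, 0, 0, 0, 0, 0, -1, -3, -4, -3, -3, -4, -3, -2, -3, -1, 4, 5, 3, 5, 9, 8, 4, 2, 1, -1, -2, -1], [0, 0, 0, 0, 0, 0, 0, 0, 0, -1, -3, -4, -3, -3, -5, -6, -6, -6, -2, 5, 7, 4, 4, 6, 4, 1, 1, 1, -1, -2, -1], [0, 0, 0, 0, 0, 0, 0, 0, 0, -1, -3, -4, -3, -3, -5, -6, -6, -6, -2, 5, 7, 4, 4, 6, 4, 1, 1, 1, -1, -2, -1], [0, 0, 0, 0, 0, 0, 0, 0, 0, -2, -5, -6, -4, -5, -7, -6, -4, -4, 1, 7, 6, 1, 2, 4, 3, 1, 1, 0, -1, -1], [0, 0, 0, 0, 0, 0, 0, 0, -1, -4, -7, -7, -6, -7, -7, -4, -2, -1, 3, 6, 3, -1, 0, 3, 3, 1], [0, -1, -2, -2, -1, -2, -4, -5, -4, -6, -8, -8, -6, -8, -9, -8, -6, -8, -6, -3, -2, -5, -3, -1, -1, -3, -1, -1, -2, -3, -2, -3, -3, -2, -1, -2, -2, -1], [0, -1, -2, -2, -1, -2, -4, -5, -4, -6, -8, -8, -6, -8, -9, -8, -7, -8, -3, 2, 2, -1, 1, 2, 1, 0, 1, 0, -1, -1], [0,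 -1, -2, -2, -1, -2, -4, -5, -5, -8, -10, -9, -8, -10, -9, -6, -5, -5, -1, 1, -1, -3, -1, 1, 1], [-1, -3, -4, -3, -3, -6, -9, -9, -9, -11, -12, -11, -11, -12, -11, -9, -9, -9, -6, -3, -3, -4, -3, -1]]

def k3L : List (List ℤ) := [[0, 0, 0, 0, 0, 0, 0, 0, 0, 0, 0, 0, 0, 0, 0, 0, 0, 0, 0, 0, 0, 0, 0, 0, 1, 4, 8, 11, 15, 24, 37, 49, 61, 76, 91, 103, 116, 130, 139, 144, 152, 160, 162, 162, 164, 164, 162, 162, 160, 152, 144, 139, 130, 116, 103, 91, 76, 61, 49, 37, 24, 15, 11, 8, 4, 1], [0, 0, 0, 0, 0, 0, 0, 0, 0, 0, 0, 0, 0, 0, 0, 0, 0, 0, 0, 0, 0, 0, 0, -1, -2, -1, 2, 2, 0, 2, 10, 16, 23, 35, 48, 56, 69, 83, 87, 82, 82, 78, 70, 68, 73, 70, 70, 80, 90, 90, 92, 92, 83, 69, 60, 50, 38, 28, 22, 15, 9, 6, 5, 3, 1], [0, 0, 0, 0, 0, 0, 0, 0, 0, 0, 0, 0, 0, 0, 0, 0, 0, 0, 0, 0, 0, 0, -1, -4, -7, -7,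 -7, -13, -22, -25, -23, -22, -18, -8, 2, 14, 34, 50, 48, 34, 15, -9, -26, -25, -16, -7, 10, 33, 47, 50, 50, 46, 36, 26, 19, 12, 5, 1], [0, 0, 0, 0, 0, 0, 0, 0, 0, 0, 0, 0, 0, 0, 0, 0, 0, 0, 1, 2, 2, 1, 2, 2, 0, -2, -1, -5, -8, -2, 12, 20, 32, 48, 60, 64, 76, 80, 71, 61, 64, 60, 57, 63, 73, 72, 78, 89, 94, 88, 86, 81, 71, 60, 54, 45, 35, 27, 22, 15, 9, 6, 5, 3, 1], [0, 0, 0, 0, 0, 0, 0, 0, 0, 0, 0, 0, 0, 0, 0, 0, 0, 0, 1, 2, 2, 1, 1, -1, -5, -8, -10, -20, -30, -29, -21, -17, -4, 17, 33, 45, 63, 62, 37, 11, -5, -22, -24, -8, 7, 14, 30, 47, 52, 48, 44, 35, 24, 17, 13, 7, 2], [0, 0, 0, 0, 0, 0, 0, 0, 0, 0, 0, 0, 0, 0, 0, 0, 0, 1, 3, 4, 3, 2, 0, -7, -17, -24, -32, -45, -53, -48, -38, -25, -2, 22, 33, 37, 35, 14, -17, -35, -41, -42, -29, -6, 9, 17, 29, 39, 39, 34, 29, 22, 15, 11, 8, 4, 1], [0,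 0, 0, 0, 0, 0, 0, 0, 0, 0, 0, 0, 0, 0, 0, 0, 0, 1, 3, 4, 3, 2, 0, -7, -17, -24, -32, -45, -53, -48, -38, -25, -2, 22, 33, 37, 35, 14, -17, -35, -41, -42, -29, -6, 9, 17, 29, 39, 39, 34, 29, 22, 15, 11, 8, 4, 1], [0, 0, 0, 0, 0, 0, 0, 0, 0, 0, 0, 0, 0, 0, 0, 0, 0, 1, 3, 4, 3, 3, 4, 1, -6, -11, -17, -27, -29, -15, 3, 20, 43, 63, 69, 72, 73, 56, 29, 13, 5, -1, 5, 20, 29, 34, 44, 52, 50, 42, 33, 23, 15, 11, 8, 4, 1], [0, 0, 0, 0, 0, 0, 0, 0, 0, 0, 0, 0, 0, 0, 0, 0, 0, 2, 5, 6, 4, 3, -1, -13, -29, -40, -54, -69, -71, -55, -36, -10, 22, 42, 38, 27, 5, -29, -56, -59, -54, -43, -22, 1, 12, 20, 28, 31, 26, 20, 14, 9, 6, 5, 3, 1], [0, 0, 0, 0, 0, 0, 0, 0, 0, 0, 1, 3, 5, 6, 9, 14, 19, 22, 27, 31, 34, 37, 44, 46, 48, 54, 65, 69, 78, 90, 100, 101, 112, 121, 123, 120, 128, 126, 118, 112, 115, 107, 102,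 102, 103, 94, 93, 95, 94, 87, 86, 81, 71, 60, 54, 45, 35, 27, 22, 15, 9, 6, 5, 3, 1], [0, 0, 0, 0, 0, 0, 0, 0, 0, 0, 0, 0, 0, 0, 0, 0, 1, 4, 7, 7, 4, -2, -15, -36, -58, -77, -95, -106, -99, -75, -43, -9, 16, 16, -9, -43, -75, -99, -106, -95, -77, -58, -36, -15, -2, 4, 7, 7, 4, 1], [0, 0, 0, 0, 0, 0, 0, 0, 0, 0, 1, 3, 5, 6, 9, 14, 19, 23, 28, 29, 27, 27, 29, 22, 14, 13, 13, 8, 16, 33, 43, 48, 63, 70, 64, 60, 59, 42, 23, 16, 12, 5, 11, 23, 27, 28, 36, 41, 38, 33, 29, 22, 15, 11, 8, 4, 1], [0, 0, 0, 0, 0, 0, 0, 0, 0, 0, 1, 3, 5, 6, 9, 14, 19, 23, 28, 29, 27, 27, 29, 22, 14, 13, 13, 8, 16, 33, 43, 48, 63, 70, 64, 60, 59, 42, 23, 16, 12, 5, 11, 23, 27, 28, 36, 41, 38, 33, 29, 22, 15, 11, 8, 4, 1], [0, 0, 0, 0, 0, 0, 0, 0, 0, 0, 1, 3, 5, 6, 9, 14, 19, 24, 29, 27, 20, 17, 15, 1, -15, -22, -30,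 -38, -24, 3, 19, 32, 50, 50, 32, 19, 3, -24, -38, -30, -22, -15, 1, 15, 17, 20, 27, 29, 24, 19, 14, 9, 6, 5, 3, 1], [0, 0, 0, 0, 0, 0, 0, 0, 0, 0, 1, 3, 5, 6, 9, 14, 20, 26, 31, 28, 20, 12, 1, -22, -43, -54, -59, -56, -29, 5, 27, 38, 42, 22, -10, -36, -55, -71, -69, -54, -40, -29, -13, -1, 3, 4, 6, 5, 2], [0, 0, 0, 0, 0, 0, 0, 0, 0, 1, 4, 8, 11, 15, 22, 29, 33, 38, 41, 36, 28, 27, 23, 11, 5, 12, 16, 23, 42, 59, 60, 64, 70, 63, 48, 43, 33, 16, 8, 13, 13, 14, 22, 29, 27, 27, 29, 28, 23, 19, 14, 9, 6, 5, 3, 1], [0, 0, 0, 0, 0, 0, 0, 0, 0, 1, 4, 8, 11, 15, 22, 29, 33, 38, 41, 36, 28, 27, 23, 11, 5, 12, 16, 23, 42, 59, 60, 64, 70, 63, 48, 43, 33, 16, 8, 13, 13, 14, 22, 29, 27, 27, 29, 28, 23, 19, 14, 9, 6, 5, 3, 1], [0, 0, 0, 0, 0, 0, 0, 0, 0, 1, 4, 8, 11, 15, 22, 29, 34, 39, 39, 29, 17, 9,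 -6, -29, -42, -41, -35, -17, 14, 35, 37, 33, 22, -2, -25, -38, -48, -53, -45, -32, -24, -17, -7, 0, 2, 3, 4, 3, 1], [0, 0, 0, 0, 0, 0, 0, 0, 0, 1, 4, 8, 11, 15, 22, 29, 34, 39, 39, 29, 17, 9, -6, -29, -42, -41, -35, -17, 14, 35, 37, 33, 22, -2, -25, -38, -48, -53, -45, -32, -24, -17, -7, 0, 2, 3, 4, 3, 1], [0, 0, 0, 0, 0, 0, 0, 0, 0, 1, 4, 8, 11, 15, 23, 33, 42, 50, 52, 44, 34, 29, 20, 5, -1, 5, 13, 29, 56, 73, 72, 69, 63, 43, 20, 3, -15, -29, -27, -17, -11, -6, 1, 4, 3, 3, 4, 3, 1], [0, 0, 0, 0, 0, 0, 0, 0, 0, 2, 7, 13, 17, 24, 35, 44, 48, 52, 47, 30, 14, 7, -8, -24, -22, -5, 11, 37, 62, 63, 45, 33, 17, -4, -17, -21, -29, -30, -20, -10, -8, -5, -1, 1, 1, 2, 2, 1], [0, 0, 0, 0, 0, 0, 0, 0, 1, 5, 12, 19, 26, 36, 46, 50, 50, 47, 33, 10, -7, -16, -25, -26, -9, 15, 34, 48, 50, 34, 14, 2, -8,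 -18, -22, -23, -25, -22, -13, -7, -7, -7, -4, -1], [0, 1, 3, 5, 6, 9, 15, 22, 27, 35, 45, 54, 60, 71, 81, 86, 87, 94, 95, 93, 94, 103, 102, 102, 107, 115, 112, 118, 126, 128, 120, 123, 121, 112, 101, 100, 90, 78, 69, 65, 54, 48, 46, 44, 37, 34, 31, 27, 22, 19, 14, 9, 6, 5, 3, 1], [0, 1, 3, 5, 6, 9, 15, 22, 27, 35, 45, 54, 60, 71, 81, 86, 88, 94, 89, 78, 72, 73, 63, 57, 60, 64, 61, 71, 80, 76, 64, 60, 48, 32, 20, 12, -2, -8, -5, -1, -2, 0, 2, 2, 1, 2, 2, 1], [0, 1, 3, 5, 6, 9, 15, 22, 28, 38, 50, 60, 69, 83, 92, 92, 90, 90, 80, 70, 70, 73, 68, 70, 78, 82, 82, 87, 83, 69, 56, 48, 35, 23, 16, 10, 2, 0, 2, 2, -1, -2, -1], [1, 4, 8, 11, 15, 24, 37, 49, 61, 76, 91, 103, 116, 130, 139, 144, 152, 160, 162, 162, 164, 164, 162, 162, 160, 152, 144, 139, 130, 116, 103, 91, 76, 61, 49, 37, 24, 15,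 11, 8, 4, 1]]

def r4L : List (List ℤ) := [[], [0, 0, 0, 0, 0, 0, 0, 0, 0, 0, 0, 0, 0, 0, 0, 0, 0, 0, 0, 0, 0, 0, 0, 0, 0, 1, 5, 12, 19, 27, 44, 73, 106, 143, 199, 275, 353, 438, 555, 689, 801, 907, 1045, 1181, 1267, 1343, 1450, 1530, 1547, 1574, 1640, 1664, 1632, 1632, 1664, 1640, 1574, 1547, 1530, 1450, 1343, 1267, 1181, 1045, 907, 801, 689, 555, 438, 353, 275, 199, 143, 106, 73, 44, 27, 19, 12, 5, 1], [0, 0, 0, 0, 0, 0, 0, 0, 0, 0, 0, 0, 0, 0, 0, 0, 0, 0, 0, 0, 0, 0, 0, 0, 0, -1, -5, -12, -20, -32, -56, -92, -132, -180, -249, -331, -405, -475, -551, -604, -602, -560, -488, -348, -129, 121, 387, 699, 1032, 1326, 1589, 1848, 2063, 2209, 2336, 2462, 2547, 2607, 2696, 2794, 2863, 2937, 3033, 3093, 3095, 3077, 3025, 2888, 2683, 2454, 2188, 1872, 1549, 1253, 974, 715, 504, 346, 223, 130,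 71, 38, 18, 6, 1], [0, 0, 0, 0, 0, 0, 0, 0, 0, 0, 0, 0, 0, 0, 0, 0, 0, 0, 0, 0, 0, 0, 0, 0, 0, 0, 0, 0, 0, 0, 1, 5, 11, 14, 15, 26, 49, 65, 72, 105, 174, 237, 289, 390, 541, 669, 786, 973, 1186, 1323, 1446, 1653, 1843, 1913, 1985, 2144, 2246, 2231, 2258, 2358, 2372, 2305, 2311, 2352, 2286, 2172, 2130, 2084, 1936, 1765, 1645, 1506, 1308, 1123, 980, 826, 656, 521, 423, 325, 230, 165, 124, 85, 49, 28, 19, 12, 5, 1], [0, 0, 0, 0, 0, 0, 0, 0, 0, 0, 0, 0, 0, 0, 0, 0, 0, 0, 0, 0, 0, 0, 0, 0, 0, 0, 0, 0, 1, 5, 11, 14, 15, 21, 24, 2, -43, -97, -196, -390, -641, -896, -1221, -1663, -2081, -2371, -2646, -2911, -2920, -2639, -2329, -1965, -1269, -387, 305, 938, 1782, 2539, 2912, 3236, 3738, 4053, 4076, 4248, 4640, 4871, 4988, 5345, 5813, 6062, 6205, 6424, 6512, 6301, 5958, 5577, 5029, 4312, 3593,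 2928, 2273, 1667, 1183, 811, 515, 300, 169, 92, 42, 13, 2], [0, 0, 0, 0, 0, 0, 0, 0, 0, 0, 0, 0, 0, 0, 0, 0, 0, 0, 0, 0, 0, 0, 0, 0, 0, 0, 0, 0, 0, 0, 0, 0, 0, 1, 5, 11, 15, 20, 34, 48, 39, 7, -35, -118, -291, -541, -839, -1228, -1737, -2289, -2827, -3390, -3949, -4378, -4661, -4872, -4960, -4843, -4611, -4359, -4024, -3603, -3232, -2925, -2582, -2248, -2008, -1762, -1420, -1070, -732, -282, 273, 806, 1328, 1898, 2416, 2780, 3039, 3216, 3229, 3070, 2827, 2528, 2155, 1753, 1385, 1057, 764, 527, 353, 224, 130, 71, 38, 18, 6, 1], [0, 0, 0, 0, 0, 0, 0, 0, 0, 0, 0, 0, 0, 0, 0, 0, 0, 0, 0, 0, 0, 0, 0, 0, 0, 0, 0, 0, 0, 0, 0, 0, 0, 1, 5, 11, 15, 20, 34, 48, 39, 7, -35, -118, -291, -541, -839, -1228, -1737, -2289, -2827, -3390, -3949, -4378, -4661, -4872, -4960, -4843, -4611, -4359, -4024, -3603,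 -3232, -2925, -2582, -2248, -2008, -1762, -1420, -1070, -732, -282, 273, 806, 1328, 1898, 2416, 2780, 3039, 3216, 3229, 3070, 2827, 2528, 2155, 1753, 1385, 1057, 764, 527, 353, 224, 130, 71, 38, 18, 6, 1], [0, 0, 0, 0, 0, 0, 0, 0, 0, 0, 0, 0, 0, 0, 0, 0, 0, 0, 0, 0, 0, 0, 0, 0, 0, 0, 0, 0, 0, 0, 0, 0, 0, 1, 5, 11, 14, 16, 29, 53, 68, 72, 92, 126, 133, 118, 130, 148, 109, 57, 75, 103, 55, 23, 100, 172, 157, 189, 320, 386, 357, 402, 510, 504, 426, 443, 490, 429, 351, 368, 387, 338, 317, 359, 372, 342, 342, 364, 347, 302, 269, 238, 192, 147, 113, 80, 48, 28, 19, 12, 5, 1], [0, 0, 0, 0, 0, 0, 0, 0, 0, 0, 0, 0, 0, 0, 0, 0, 0, 0, 0, 0, 0, 0, 0, 0, 0, 0, 0, 0, 0, 0, 0, 0, 0, -1, -4, -5, 3, 17, 29, 53, 116, 212, 319, 462, 670, 890, 1062, 1211, 1320, 1252, 948, 487, -156, -1097, -2249, -3414, -4593,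 -5810, -6857, -7591, -8126, -8470, -8465, -8195, -7894, -7534, -7040, -6612, -6373, -6156, -5923, -5823, -5759, -5502, -5100, -4647, -3981, -3018, -1946, -865, 290, 1429, 2356, 3047, 3547, 3788, 3733, 3480, 3113, 2647, 2131, 1645, 1222, 864, 582, 377, 231, 131, 71, 38, 18, 6, 1], [0, 0, 0, 0, 0, 0, 0, 0, 0, 0, 0, 0, 0, 0, 0, 0, 0, 0, 0, 0, 0, 0, 0, 0, 0, 0, 0, 0, 0, 0, 0, 0, 0, 0, 0, 0, 1, 4, 7, 7, 8, 17, 29, 32, 32, 43, 56, 58, 65, 86, 95, 89, 106, 141, 146, 136, 163, 198, 188, 175, 205, 223, 194, 184, 213, 208, 164, 159, 187, 174, 135, 135, 152, 134, 108, 113, 118, 94, 72, 73, 70, 49, 33, 32, 29, 17, 8, 7, 7, 4, 1], [0, 0, 0, 0, 0, 0, 0, 0, 0, 0, 0, 0, 0, 0, 0, 0, 0, 0, 0, 0, 0, 0, 0, 0, 0, 0, 0, 0, 0, 0, 0, 0, 0, 0, 0, 0, -1, -5, -12, -20, -31, -50, -75, -99, -123, -149, -164, -157,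 -138, -114, -80, -59, -102, -241, -503, -950, -1632, -2543, -3676, -5037, -6570, -8176, -9802, -11400, -12865, -14126, -15195, -16062, -16690, -17124, -17443, -17650, -17747, -17802, -17835, -17787, -17641, -17407, -17021, -16413, -15590, -14556, -13283, -11806, -10214, -8563, -6906, -5341, -3947, -2749, -1771, -1037, -525, -188, 6, 90, 110, 100, 75, 47, 26, 13, 5, 1], [0, 0, 0, 0, 0, 0, 0, 0, 0, 0, 0, 0, 0, 0, 0, 0, 0, 0, 0, 0, 0, 0, 0, 0, 0, 0, 0, 0, 0, 0, 0, 0, 0, 0, 0, 0, -1, -3, -2, 5, 11, 11, 19, 48, 81, 106, 148, 213, 262, 300, 376, 456, 468, 470, 539, 580, 523, 510, 601, 623, 559, 619, 774, 795, 766, 907, 1062, 1014, 960, 1074, 1120, 973, 889, 941, 886, 721, 683, 737, 685, 598, 631, 690, 654, 610, 630, 628, 558, 488, 442, 377, 293, 226, 175, 122, 75, 47, 31, 17, 6, 1], [0, 0, 0,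 0, 0, 0, 0, 0, 0, 0, 0, 0, 0, 0, 0, 0, 0, 0, 0, 0, 0, 0, 0, 0, 0, 0, 0, 0, 0, 0, 0, 0, 0, 0, 0, 0, -1, -3, -2, 5, 11, 11, 19, 48, 81, 106, 148, 213, 262, 300, 376, 456, 468, 470, 539, 580, 523, 510, 601, 623, 559, 619, 774, 795, 766, 907, 1062, 1014, 960, 1074, 1120, 973, 889, 941, 886, 721, 683, 737, 685, 598, 631, 690, 654, 610, 630, 628, 558, 488, 442, 377, 293, 226, 175, 122, 75, 47, 31, 17, 6, 1], [0, 0, 0, 0, 0, 0, 0, 0, 0, 0, 0, 0, 0, 0, 0, 0, 0, 0, 0, 0, 0, 0, 0, 0, 0, 0, 0, 0, 0, 0, 0, 0, 0, 0, 0, 0, 1, 3, 3, 1, 7, 26, 49, 80, 148, 259, 397, 593, 890, 1241, 1604, 2055, 2600, 3073, 3440, 3842, 4181, 4220, 4106, 4081, 3908, 3410, 3006, 2900, 2657, 2247, 2223, 2503, 2495, 2390, 2694, 3005, 2820, 2595, 2681, 2545, 1994, 1622, 1547, 1289, 936, 959, 1220, 1359, 1549, 1994, 2434, 2673,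 2864, 3047, 3055, 2880, 2651, 2374, 2009, 1621, 1280, 977, 704, 486, 326, 205, 118, 66, 37, 18, 6, 1], [0, 0, 0, 0, 0, 0, 0, 0, 0, 0, 0, 0, 0, 0, 0, 0, 0, 0, 0, 0, 0, 0, 0, 0, 0, 0, 0, 0, 0, 0, 0, 0, 0, 0, 0, 0, 0, 0, 0, 0, 0, -1, -7, -21, -38, -53, -75, -111, -141, -142, -118, -58, 89, 340, 666, 1091, 1655, 2275, 2840, 3370, 3852, 4106, 4051, 3807, 3373, 2627, 1690, 787, -129, -1113, -1933, -2480, -2961, -3414, -3670, -3842, -4172, -4580, -4963, -5510, -6273, -7007, -7653, -8334, -8906, -9133, -9075, -8824, -8253, -7342, -6297, -5213, -4051, -2915, -1974, -1231, -628, -201, 28, 133, 179, 172, 127, 82, 52, 29, 11, 2], [0, 0, 0, 0, 0, 0, 0, 0, 0, 0, 0, 0, 0, 0, 0, 0, 0, 0, 0, 0, 0, 0, 0, 0, 0, 0, 0, 0, 0, 0, 0, 0, 0, 0, 0, 0, 0, 0, 0, 0, 0, 0, -1, -4, -7, -8, -12, -22, -26, -17, -14, -21,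 1, 59, 98, 119, 196, 306, 350, 374, 483, 578, 542, 523, 632, 674, 573, 578, 729, 754, 678, 784, 977, 981, 945, 1096, 1218, 1126, 1062, 1147, 1131, 961, 878, 889, 801, 667, 645, 658, 595, 542, 562, 566, 517, 482, 468, 424, 358, 305, 256, 198, 148, 113, 80, 48, 28, 19, 12, 5, 1], [0, 0, 0, 0, 0, 0, 0, 0, 0, 0, 0, 0, 0, 0, 0, 0, 0, 0, 0, 0, 0, 0, 0, 0, 0, 0, 0, 0, 0, 0, 0, 0, 0, 0, 0, 0, 0, 0, 0, 0, 0, 0, -1, -4, -7, -8, -12, -22, -26, -17, -14, -21, 1, 59, 98, 119, 196, 306, 350, 374, 483, 578, 542, 523, 632, 674, 573, 578, 729, 754, 678, 784, 977, 981, 945, 1096, 1218, 1126, 1062, 1147, 1131, 961, 878, 889, 801, 667, 645, 658, 595, 542, 562, 566, 517, 482, 468, 424, 358, 305, 256, 198, 148, 113, 80, 48, 28, 19, 12, 5, 1], [0, 0, 0, 0, 0, 0, 0, 0, 0, 0, 0, 0, 0, 0, 0, 0, 0, 0, 0, 0, 0, 0,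 0, 0, 0, 0, 0, 0, 0, 0, 0, 0, 0, 0, 0, 0, 0, 0, 0, 0, 0, 0, 1, 4, 7, 8, 11, 18, 20, 14, 14, 19, 6, -14, -1, 33, 56, 117, 267, 449, 630, 888, 1214, 1475, 1667, 1876, 2005, 1926, 1747, 1556, 1220, 732, 297, -75, -521, -930, -1147, -1313, -1535, -1657, -1667, -1774, -1971, -2105, -2266, -2578, -2899, -3122, -3358, -3604, -3693, -3620, -3495, -3278, -2901, -2454, -2024, -1581, -1132, -759, -481, -257, -89, 2, 40, 59, 62, 48, 31, 20, 12, 5, 1], [0, 0, 0, 0, 0, 0, 0, 0, 0, 0, 0, 0, 0, 0, 0, 0, 0, 0, 0, 0, 0, 0, 0, 0, 0, 0, 0, 0, 0, 0, 0, 0, 0, 0, 0, 0, 0, 0, 0, 0, 0, 0, 1, 4, 7, 8, 11, 18, 20, 14, 14, 19, 6, -14, -1, 33, 56, 117, 267, 449, 630, 888, 1214, 1475, 1667, 1876, 2005, 1926, 1747, 1556, 1220, 732, 297, -75, -521, -930, -1147, -1313, -1535, -1657, -1667, -1774, -1971, -2105, -2266,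 -2578, -2899, -3122, -3358, -3604, -3693, -3620, -3495, -3278, -2901, -2454, -2024, -1581, -1132, -759, -481, -257, -89, 2, 40, 59, 62, 48, 31, 20, 12, 5, 1], [0, 0, 0, 0, 0, 0, 0, 0, 0, 0, 0, 0, 0, 0, 0, 0, 0, 0, 0, 0, 0, 0, 0, 0, 0, 0, 0, 0, 0, 0, 0, 0, 0, 0, 0, 0, 0, 0, 0, 0, 0, 0, 0, 0, 0, 0, 0, 0, 0, -1, -4, -7, -7, -9, -20, -31, -27, -20, -29, -32, 0, 38, 55, 96, 180, 235, 248, 309, 406, 420, 384, 432, 503, 467, 426, 502, 559, 504, 505, 617, 644, 565, 574, 646, 593, 473, 446, 430, 308, 187, 154, 108, 7, -46, -30, -32, -59, -51, -17, -3, -2, 9, 19, 15, 8, 7, 7, 4, 1], [0, 0, 0, 0, 0, 0, 0, 0, 0, 0, 0, 0, 0, 0, 0, 0, 0, 0, 0, 0, 0, 0, 0, 0, 0, 0, 0, 0, 0, 0, 0, 0, 0, 0, 0, 0, 0, 0, 0, 0, 0, 0, 0, 0, 0, 0, 1, 5, 12, 21, 36, 61, 89, 117, 160, 217, 256, 283, 346, 425, 462, 527, 719, 954,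 1161, 1509, 2062, 2580, 3019, 3631, 4309, 4674, 4860, 5196, 5389, 5132, 4857, 4833, 4591, 4058, 3841, 3924, 3726, 3423, 3533, 3701, 3449, 3167, 3141, 2877, 2203, 1609, 1161, 472, -335, -857, -1194, -1579, -1829, -1779, -1618, -1469, -1225, -890, -612, -417, -237, -84, -3, 28, 46, 51, 40, 27, 19, 12, 5, 1], [0, 0, 0, 0, 0, 0, 0, 0, 0, 0, 0, 0, 0, 0, 0, 0, 0, 0, 0, 0, 0, 0, 0, 0, 0, 0, 0, 0, 0, 0, 0, 0, 0, 0, 0, 0, 0, 0, 0, 0, 0, 0, 0, 0, 0, 0, 0, 0, 0, 0, 0, 1, 5, 12, 20, 33, 60, 99, 140, 192, 273, 369, 457, 559, 698, 838, 960, 1116, 1318, 1507, 1696, 1954, 2241, 2483, 2733, 3026, 3254, 3379, 3497, 3584, 3525, 3381, 3259, 3076, 2780, 2512, 2313, 2059, 1778, 1602, 1466, 1260, 1071, 958, 802, 571, 372, 194, -49, -302, -483, -639, -799, -892, -901, -885, -845, -748, -625, -518, -414, -303,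 -212, -152, -104, -61, -33, -20, -12, -5, -1], [0, 0, 0, 0, 0, 0, 0, 0, 0, 0, 0, 0, 0, 0, 0, 0, 0, 0, 0, 0, 0, 0, 0, 0, 0, 0, 0, 0, 0, 0, 0, 0, 0, 0, 0, 0, 0, 0, 0, 0, 0, 0, 0, 0, 0, 0, 0, 0, 0, 1, 4, 7, 7, 8, 16, 26, 30, 36, 50, 57, 55, 71, 100, 102, 91, 118, 155, 144, 129, 167, 194, 160, 147, 189, 191, 142, 147, 193, 175, 127, 146, 181, 154, 126, 150, 158, 123, 112, 130, 117, 85, 82, 87, 68, 51, 54, 52, 40, 38, 41, 33, 24, 25, 25, 16, 8, 7, 7, 4, 1], [0, 0, 0, 0, 0, 0, 0, 0, 0, 0, 0, 0, 0, 0, 0, 0, 0, 0, 0, 0, 0, 0, 0, 0, 0, 0, 0, 0, 0, 0, 0, 0, 0, 0, 0, 0, 0, 0, 0, 0, 0, 0, 0, 0, 0, 0, 0, 0, 0, -1, -4, -7, -7, -8, -15, -21, -17, -12, -10, 9, 48, 79, 115, 199, 302, 372, 467, 641, 800, 896, 1060, 1314, 1487, 1588, 1801, 2052, 2139, 2190, 2383, 2519, 2448, 2421, 2536, 2518, 2342, 2295,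 2332, 2194, 1999, 1967, 1926, 1715, 1536, 1486, 1357, 1116, 957, 867, 694, 496, 391, 308, 179, 87, 70, 49, 4, -9, 10, 16, 10, 14, 20, 15, 8, 7, 7, 4, 1], [0, 0, 0, 0, 0, 0, 0, 0, 0, 0, 0, 0, 0, 0, 0, 0, 0, 0, 0, 0, 0, 0, 0, 0, 0, 0, 0, 0, 0, 0, 0, 0, 0, 0, 0, 0, 0, 0, 0, 0, 0, 0, 0, 0, 0, 0, 0, 0, 0, 0, 0, 0, 0, 0, -1, -5, -12, -19, -28, -47, -76, -105, -137, -184, -236, -276, -320, -377, -411, -415, -438, -466, -427, -353, -325, -278, -128, 27, 119, 280, 542, 734, 858, 1089, 1362, 1495, 1597, 1813, 1980, 1994, 2051, 2196, 2222, 2148, 2173, 2220, 2122, 2003, 1987, 1922, 1735, 1587, 1504, 1338, 1109, 952, 830, 648, 467, 362, 277, 169, 91, 66, 45, 10, -8, -2, 3, -2, -6, -4, -1], [0, 0, 0, 0, 0, 0, 0, 0, 0, 0, 0, 0, 0, 0, 0, 0, 0, 0, 0, 0, 0, 0, 0, 0, 0, 0, 0, 0, 0, 0, 0, 0, 0, 0, 0, 0, 0,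 0, 0, 0, 0, 0, 0, 0, 0, 0, 0, 0, 0, 0, 0, 0, 0, 0, 0, 0, 0, 0, 0, 0, 0, 0, 0, 0, 0, 0, 0, -1, -4, -7, -7, -8, -17, -29, -32, -32, -44, -59, -59, -57, -71, -82, -73, -69, -83, -85, -68, -64, -72, -61, -41, -38, -35, -15, -1, 1, 15, 35, 38, 41, 61, 72, 64, 68, 85, 83, 69, 73, 82, 71, 57, 59, 59, 44, 32, 32, 29, 17, 8, 7, 7, 4, 1]]

def r8L : List (List ℤ) := [[], [0, 0, 0, 0, 0, 0, 0, 0, 0, 0, 0, 0, 0, 0, 0, 0, 0, 0, 0, 0, 0, 0, 0, 0, 0, 1, 5, 13, 24, 38, 58, 87, 126, 178, 247, 331, 426, 535, 661, 796, 930, 1061, 1185, 1292, 1382, 1463, 1532, 1581, 1615, 1641, 1655, 1657, 1657, 1655, 1641, 1615, 1581, 1532, 1463, 1382, 1292, 1185, 1061, 930, 796, 661, 535, 426, 331, 247, 178, 126, 87, 58, 38, 24, 13, 5, 1], [0, 0, 0, 0, 0, 0, 0, 0, 0, 0, 0, 0, 0, 0, 0, 0, 0, 0, 0, 0, 0, 0, 0, 0, 0, -1, -5,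 -13, -25, -43, -71, -111, -163, -229, -310, -400, -491, -577, -646, -679, -662, -587, -444, -229, 45, 360, 702, 1049, 1374, 1665, 1919, 2125, 2278, 2392, 2480, 2546, 2605, 2677, 2763, 2855, 2954, 3054, 3133, 3175, 3174, 3116, 2987, 2790, 2534, 2226, 1884, 1536, 1203, 899, 639, 432, 275, 162, 88, 44, 19, 6, 1], [0, 0, 0, 0, 0, 0, 0, 0, 0, 0, 0, 0, 0, 0, 0, 0, 0, 0, 0, 0, 0, 0, 0, 0, 0, 0, 0, 0, 0, 0, 1, 5, 12, 19, 25, 35, 52, 72, 96, 135, 194, 270, 367, 492, 636, 789, 960, 1150, 1336, 1507, 1672, 1826, 1953, 2059, 2156, 2231, 2278, 2316, 2348, 2358, 2352, 2347, 2335, 2299, 2245, 2177, 2081, 1957, 1821, 1672, 1500, 1314, 1132, 957, 788, 635, 504, 390, 291, 211, 149, 100, 63, 39, 24, 13, 5, 1], [0, 0, 0, 0, 0, 0, 0, 0, 0, 0, 0, 0, 0, 0, 0, 0, 0, 0, 0, 0, 0, 0, 0, 0, 0, 0, 0, 0, 1, 5, 12,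 19, 25, 30, 27, 4, -44, -125, -266, -491, -793, -1161, -1596, -2068, -2509, -2873, -3131, -3214, -3057, -2677, -2118, -1390, -541, 325, 1154, 1941, 2628, 3152, 3540, 3834, 4022, 4137, 4274, 4467, 4694, 4982, 5354, 5749, 6107, 6425, 6664, 6737, 6610, 6300, 5806, 5141, 4377, 3589, 2816, 2099, 1489, 1006, 640, 379, 209, 105, 44, 13, 2], [0, 0, 0, 0, 0, 0, 0, 0, 0, 0, 0, 0, 0, 0, 0, 0, 0, 0, 0, 0, 0, 0, 0, 0, 0, 0, 0, 0, 0, 0, 0, 0, 0, 1, 5, 12, 20, 30, 44, 56, 53, 25, -40, -167, -379, -684, -1090, -1602, -2197, -2833, -3474, -4077, -4579, -4935, -5136, -5173, -5042, -4780, -4435, -4029, -3593, -3182, -2821, -2499, -2221, -1991, -1769, -1511, -1207, -841, -383, 159, 748, 1365, 1984, 2545, 2996, 3313, 3471, 3451, 3272, 2973, 2585, 2147, 1710, 1308, 955, 663, 439, 276, 162, 88, 44, 19, 6, 1],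 [0, 0, 0, 0, 0, 0, 0, 0, 0, 0, 0, 0, 0, 0, 0, 0, 0, 0, 0, 0, 0, 0, 0, 0, 0, 0, 0, 0, 0, 0, 0, 0, 0, 1, 5, 12, 20, 30, 44, 56, 53, 25, -40, -167, -379, -684, -1090, -1602, -2197, -2833, -3474, -4077, -4579, -4935, -5136, -5173, -5042, -4780, -4435, -4029, -3593, -3182, -2821, -2499, -2221, -1991, -1769, -1511, -1207, -841, -383, 159, 748, 1365, 1984, 2545, 2996, 3313, 3471, 3451, 3272, 2973, 2585, 2147, 1710, 1308, 955, 663, 439, 276, 162, 88, 44, 19, 6, 1], [0, 0, 0, 0, 0, 0, 0, 0, 0, 0, 0, 0, 0, 0, 0, 0, 0, 0, 0, 0, 0, 0, 0, 0, 0, 0, 0, 0, 0, 0, 0, 0, 0, 1, 5, 12, 19, 26, 38, 57, 78, 99, 122, 141, 147, 145, 141, 125, 92, 60, 43, 35, 38, 66, 112, 160, 219, 295, 365, 415, 458, 493, 502, 491, 478, 454, 414, 381, 363, 343, 324, 325, 341, 354, 365, 376, 373, 352, 324, 290, 243, 188, 137, 95,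 62, 39, 24, 13, 5, 1], [0, 0, 0, 0, 0, 0, 0, 0, 0, 0, 0, 0, 0, 0, 0, 0, 0, 0, 0, 0, 0, 0, 0, 0, 0, 0, 0, 0, 0, 0, 0, 0, 0, -1, -4, -6, -1, 13, 36, 76, 146, 252, 399, 598, 843, 1100, 1333, 1503, 1539, 1363, 935, 236, -747, -1973, -3340, -4747, -6095, -7251, -8110, -8654, -8888, -8810, -8481, -8011, -7471, -6919, -6453, -6135, -5942, -5849, -5843, -5844, -5740, -5476, -5016, -4305, -3341, -2189, -911, 422, 1685, 2753, 3557, 4054, 4218, 4082, 3723, 3214, 2628, 2045, 1521, 1078, 725, 464, 283, 163, 88, 44, 19, 6, 1], [0, 0, 0, 0, 0, 0, 0, 0, 0, 0, 0, 0, 0, 0, 0, 0, 0, 0, 0, 0, 0, 0, 0, 0, 0, 0, 0, 0, 0, 0, 0, 0, 0, 0, 0, 0, 1, 4, 8, 11, 14, 20, 29, 38, 47, 55, 59, 63, 74, 89, 101, 112, 127, 141, 151, 165, 182, 193, 200, 208, 211, 205, 199, 199, 196, 187, 178, 168, 155, 146, 144, 141, 132,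 123, 116, 106, 94, 84, 74, 61, 48, 38, 29, 20, 14, 11, 8, 4, 1], [0, 0, 0, 0, 0, 0, 0, 0, 0, 0, 0, 0, 0, 0, 0, 0, 0, 0, 0, 0, 0, 0, 0, 0, 0, 0, 0, 0, 0, 0, 0, 0, 0, 0, 0, 0, -1, -5, -13, -25, -42, -65, -93, -124, -156, -183, -194, -182, -146, -88, -24, 9, -36, -212, -581, -1200, -2099, -3281, -4727, -6380, -8147, -9932, -11645, -13196, -14520, -15594, -16415, -16992, -17365, -17592, -17718, -17782, -17825, -17860, -17864, -17807, -17651, -17334, -16798, -16013, -14960, -13635, -12075, -10349, -8537, -6734, -5045, -3555, -2316, -1356, -673, -231, 20, 131, 154, 133, 96, 59, 31, 14, 5, 1], [0, 0, 0, 0, 0, 0, 0, 0, 0, 0, 0, 0, 0, 0, 0, 0, 0, 0, 0, 0, 0, 0, 0, 0, 0, 0, 0, 0, 0, 0, 0, 0, 0, 0, 0, 0, -1, -3, -3, 2, 10, 19, 33, 57, 90, 135, 196, 262, 320, 378, 442, 494, 524, 548, 565, 556, 538,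 542, 559, 577, 622, 700, 774, 837, 918, 1002, 1054, 1084, 1104, 1086, 1026, 963, 905, 828, 749, 699, 664, 630, 619, 636, 652, 658, 666, 664, 632, 580, 522, 452, 368, 285, 213, 151, 100, 63, 37, 18, 6, 1], [0, 0, 0, 0, 0, 0, 0, 0, 0, 0, 0, 0, 0, 0, 0, 0, 0, 0, 0, 0, 0, 0, 0, 0, 0, 0, 0, 0, 0, 0, 0, 0, 0, 0, 0, 0, -1, -3, -3, 2, 10, 19, 33, 57, 90, 135, 196, 262, 320, 378, 442, 494, 524, 548, 565, 556, 538, 542, 559, 577, 622, 700, 774, 837, 918, 1002, 1054, 1084, 1104, 1086, 1026, 963, 905, 828, 749, 699, 664, 630, 619, 636, 652, 658, 666, 664, 632, 580, 522, 452, 368, 285, 213, 151, 100, 63, 37, 18, 6, 1], [0, 0, 0, 0, 0, 0, 0, 0, 0, 0, 0, 0, 0, 0, 0, 0, 0, 0, 0, 0, 0, 0, 0, 0, 0, 0, 0, 0, 0, 0, 0, 0, 0, 0, 0, 0, 1, 3, 4, 4, 9, 24, 52, 102, 188, 315, 493, 750, 1099, 1519, 2001, 2546, 3105,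 3609, 4039, 4369, 4516, 4453, 4248, 3932, 3498, 3038, 2666, 2378, 2165, 2109, 2214, 2372, 2553, 2784, 2975, 3023, 2961, 2816, 2526, 2117, 1714, 1351, 1015, 794, 769, 897, 1141, 1524, 2000, 2456, 2842, 3143, 3298, 3264, 3077, 2784, 2408, 1990, 1583, 1211, 881, 608, 401, 252, 149, 83, 43, 19, 6, 1], [0, 0, 0, 0, 0, 0, 0, 0, 0, 0, 0, 0, 0, 0, 0, 0, 0, 0, 0, 0, 0, 0, 0, 0, 0, 0, 0, 0, 0, 0, 0, 0, 0, 0, 0, 0, 0, 0, 0, 0, 0, -1, -7, -22, -45, -73, -106, -142, -171, -180, -153, -58, 142, 462, 908, 1489, 2179, 2904, 3587, 4156, 4513, 4572, 4316, 3757, 2911, 1862, 747, -343, -1350, -2188, -2809, -3250, -3544, -3706, -3822, -4006, -4298, -4716, -5313, -6084, -6938, -7801, -8613, -9257, -9621, -9666, -9368, -8700, -7707, -6500, -5182, -3855, -2641, -1628, -843, -291, 39, 196, 243, 223, 168, 109,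 63, 31, 11, 2], [0, 0, 0, 0, 0, 0, 0, 0, 0, 0, 0, 0, 0, 0, 0, 0, 0, 0, 0, 0, 0, 0, 0, 0, 0, 0, 0, 0, 0, 0, 0, 0, 0, 0, 0, 0, 0, 0, 0, 0, 0, 0, -1, -4, -8, -12, -18, -26, -30, -27, -22, -12, 17, 65, 121, 190, 277, 360, 425, 490, 556, 592, 600, 611, 618, 605, 605, 641, 684, 727, 802, 897, 971, 1038, 1120, 1180, 1192, 1184, 1160, 1093, 1001, 924, 849, 757, 678, 632, 597, 568, 562, 568, 560, 540, 517, 480, 425, 366, 309, 249, 189, 137, 95, 62, 39, 24, 13, 5, 1], [0, 0, 0, 0, 0, 0, 0, 0, 0, 0, 0, 0, 0, 0, 0, 0, 0, 0, 0, 0, 0, 0, 0, 0, 0, 0, 0, 0, 0, 0, 0, 0, 0, 0, 0, 0, 0, 0, 0, 0, 0, 0, -1, -4, -8, -12, -18, -26, -30, -27, -22, -12, 17, 65, 121, 190, 277, 360, 425, 490, 556, 592, 600, 611, 618, 605, 605, 641, 684, 727, 802, 897, 971, 1038, 1120, 1180, 1192, 1184, 1160, 1093, 1001, 924, 849,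 757, 678, 632, 597, 568, 562, 568, 560, 540, 517, 480, 425, 366, 309, 249, 189, 137, 95, 62, 39, 24, 13, 5, 1], [0, 0, 0, 0, 0, 0, 0, 0, 0, 0, 0, 0, 0, 0, 0, 0, 0, 0, 0, 0, 0, 0, 0, 0, 0, 0, 0, 0, 0, 0, 0, 0, 0, 0, 0, 0, 0, 0, 0, 0, 0, 0, 1, 4, 8, 12, 17, 22, 23, 20, 17, 11, -3, -15, -12, 8, 58, 165, 335, 558, 839, 1172, 1509, 1805, 2042, 2179, 2163, 1997, 1710, 1303, 804, 291, -193, -646, -1028, -1296, -1475, -1597, -1654, -1674, -1727, -1834, -1984, -2205, -2510, -2849, -3181, -3495, -3747, -3877, -3870, -3729, -3441, -3021, -2526, -2003, -1484, -1014, -630, -337, -129, -2, 60, 82, 80, 63, 42, 25, 13, 5, 1], [0, 0, 0, 0, 0, 0, 0, 0, 0, 0, 0, 0, 0, 0, 0, 0, 0, 0, 0, 0, 0, 0, 0, 0, 0, 0, 0, 0, 0, 0, 0, 0, 0, 0, 0, 0, 0, 0, 0, 0, 0, 0, 1, 4, 8, 12, 17, 22, 23, 20, 17, 11, -3, -15, -12,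 8, 58, 165, 335, 558, 839, 1172, 1509, 1805, 2042, 2179, 2163, 1997, 1710, 1303, 804, 291, -193, -646, -1028, -1296, -1475, -1597, -1654, -1674, -1727, -1834, -1984, -2205, -2510, -2849, -3181, -3495, -3747, -3877, -3870, -3729, -3441, -3021, -2526, -2003, -1484, -1014, -630, -337, -129, -2, 60, 82, 80, 63, 42, 25, 13, 5, 1], [0, 0, 0, 0, 0, 0, 0, 0, 0, 0, 0, 0, 0, 0, 0, 0, 0, 0, 0, 0, 0, 0, 0, 0, 0, 0, 0, 0, 0, 0, 0, 0, 0, 0, 0, 0, 0, 0, 0, 0, 0, 0, 0, 0, 0, 0, 0, 0, 0, -1, -4, -8, -11, -15, -23, -32, -36, -36, -33, -20, 7, 42, 88, 154, 228, 289, 340, 390, 426, 440, 450, 462, 461, 459, 479, 507, 524, 547, 585, 614, 625, 635, 633, 597, 542, 484, 406, 306, 212, 133, 56, -11, -51, -71, -79, -67, -38, -12, 3, 13, 19, 18, 14, 11, 8, 4, 1], [0, 0, 0, 0, 0, 0, 0, 0, 0, 0, 0, 0, 0, 0, 0, 0, 0,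 0, 0, 0, 0, 0, 0, 0, 0, 0, 0, 0, 0, 0, 0, 0, 0, 0, 0, 0, 0, 0, 0, 0, 0, 0, 0, 0, 0, 0, 1, 5, 13, 26, 47, 77, 112, 152, 202, 257, 304, 348, 400, 451, 504, 604, 781, 1030, 1376, 1859, 2442, 3059, 3705, 4352, 4886, 5246, 5464, 5518, 5363, 5082, 4782, 4447, 4085, 3809, 3650, 3535, 3482, 3538, 3609, 3589, 3500, 3330, 2981, 2455, 1844, 1156, 383, -374, -1018, -1541, -1912, -2062, -2005, -1817, -1535, -1186, -838, -542, -302, -121, -11, 41, 62, 65, 54, 38, 24, 13, 5, 1], [0, 0, 0, 0, 0, 0, 0, 0, 0, 0, 0, 0, 0, 0, 0, 0, 0, 0, 0, 0, 0, 0, 0, 0, 0, 0, 0, 0, 0, 0, 0, 0, 0, 0, 0, 0, 0, 0, 0, 0, 0, 0, 0, 0, 0, 0, 0, 0, 0, 0, 0, 1, 5, 13, 25, 44, 75, 119, 175, 247, 338, 442, 555, 681, 817, 955, 1103, 1273, 1461, 1668, 1911, 2188, 2476, 2769, 3063, 3321, 3511, 3636, 3688, 3642, 3511, 3329, 3096, 2815,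 2528, 2259, 1997, 1756, 1563, 1402, 1247, 1106, 974, 816, 626, 423, 200, -51, -303, -531, -732, -890, -979, -1000, -968, -887, -767, -633, -502, -379, -272, -188, -124, -76, -44, -25, -13, -5, -1], [0, 0, 0, 0, 0, 0, 0, 0, 0, 0, 0, 0, 0, 0, 0, 0, 0, 0, 0, 0, 0, 0, 0, 0, 0, 0, 0, 0, 0, 0, 0, 0, 0, 0, 0, 0, 0, 0, 0, 0, 0, 0, 0, 0, 0, 0, 0, 0, 0, 1, 4, 8, 11, 14, 19, 26, 35, 48, 61, 67, 70, 80, 94, 106, 121, 140, 152, 156, 163, 171, 171, 171, 178, 178, 167, 160, 160, 157, 155, 160, 161, 151, 145, 147, 143, 133, 128, 123, 110, 96, 87, 76, 62, 54, 51, 46, 41, 40, 39, 35, 30, 25, 19, 14, 11, 8, 4, 1], [0, 0, 0, 0, 0, 0, 0, 0, 0, 0, 0, 0, 0, 0, 0, 0, 0, 0, 0, 0, 0, 0, 0, 0, 0, 0, 0, 0, 0, 0, 0, 0, 0, 0, 0, 0, 0, 0, 0, 0, 0, 0, 0, 0, 0, 0, 0, 0, 0, -1, -4, -8, -11, -14, -18, -21, -21, -19, -9,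 18, 59, 107, 172, 260, 358, 464, 597, 753, 909, 1073, 1263, 1457, 1638, 1829, 2025, 2183, 2302, 2413, 2497, 2526, 2529, 2527, 2487, 2413, 2349, 2286, 2187, 2076, 1982, 1875, 1738, 1606, 1480, 1326, 1155, 996, 834, 657, 496, 367, 251, 147, 74, 28, -2, -11, 0, 12, 16, 18, 20, 18, 14, 11, 8, 4, 1], [0, 0, 0, 0, 0, 0, 0, 0, 0, 0, 0, 0, 0, 0, 0, 0, 0, 0, 0, 0, 0, 0, 0, 0, 0, 0, 0, 0, 0, 0, 0, 0, 0, 0, 0, 0, 0, 0, 0, 0, 0, 0, 0, 0, 0, 0, 0, 0, 0, 0, 0, 0, 0, 0, -1, -5, -13, -24, -39, -61, -91, -128, -174, -228, -282, -332, -382, -425, -449, -460, -467, -456, -416, -359, -285, -175, -37, 108, 276, 482, 698, 906, 1124, 1341, 1522, 1678, 1835, 1967, 2055, 2129, 2196, 2223, 2218, 2215, 2199, 2145, 2077, 2008, 1910, 1780, 1645, 1501, 1329, 1145, 968, 789, 610, 455, 329, 221, 134, 76, 39, 14, 2, 0,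 -2, -6, -7, -4, -1], [0, 0, 0, 0, 0, 0, 0, 0, 0, 0, 0, 0, 0, 0, 0, 0, 0, 0, 0, 0, 0, 0, 0, 0, 0, 0, 0, 0, 0, 0, 0, 0, 0, 0, 0, 0, 0, 0, 0, 0, 0, 0, 0, 0, 0, 0, 0, 0, 0, 0, 0, 0, 0, 0, 0, 0, 0, 0, 0, 0, 0, 0, 0, 0, 0, 0, 0, -1, -4, -8, -11, -14, -20, -29, -38, -47, -56, -62, -65, -69, -74, -77, -79, -82, -82, -77, -72, -67, -58, -48, -41, -32, -18, -5, 5, 18, 32, 41, 48, 58, 67, 72, 77, 82, 82, 79, 77, 74, 69, 65, 62, 56, 47, 38, 29, 20, 14, 11, 8, 4, 1]]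

def k0 (c : Fin 26) : List ℤ := k0L.getD c []

def k1 (c : Fin 26) : List ℤ := k1L.getD c []

/-- the values of the kernel divided by `q Φ₄ Φ₈ Φ₂₄` -/
def k3 (c : Fin 26) : List ℤ := k3L.getD c []

def rr4 (c : Fin 26) : List ℤ := r4L.getD c []

def rr8 (c : Fin 26) : List ℤ := r8L.getD c []

/-- `q Φ₄ Φ₈ Φ₂₄` -/
def G : List ℤ := [0, 1, 0, 1, 0, 0, 0, 0, 0, 0, 0, 0, 0, 1, 0, 1]

/-- inverse of `k3 o` modulo `Φ₄`, up to `6` -/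
def s4 : List ℤ := [-1, 1]

def t4 : List ℤ := [-6, 0, 6, 0, -6, 0, 6, 0, -6, 0, 6, 0, -6, 0, 6, 0, -6, 0, 6, 0, -6, 0, 6, 0, -7, -3, 3, 0, -7, -9, -6, -3, -6, -12, -9, 0, -4, -14, -5, 9, -3, -17, 1, 17, -3, -17, 5, 17, -3, -9, 11, 14, -2, 0, 15, 12, 0, 3, 12, 9, 1, 0, 3, 3, 1]

/-- inverse of `k3 o` modulo `Φ₈`, up to `2` -/
def s8 : List ℤ := [3, -7, 7, -3]

def t8 : List ℤ := [-2, 0, 0, 0, 2, 0, 0, 0, -2, 0, 0, 0, 2, 0, 0, 0, -2, 0, 0, 0, 2, 0, 0, 0, 1, 5, 3, 2, 11, 15, 12, 9, 16, 18, 9, 12, 20, 8, 1, 9, 11, -1, -3, 7, 1, -7, 3, 1, -13, -9, -1, -8, -18, -12, -9, -18, -18, -9, -12, -15, -9, -2, -3, -5, -3]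

theorem hk0 : ∀ c, pEq (pAdd (W7 (y0 c)) (0 :: W7 (y1 c))) (k0 c) = true := by decide +kernel

theorem hk1 : ∀ r, vz (2 ^ 21) G * vz (2 ^ 21) (k1 r) =
    dotZ (2 ^ 21) (TabE8c.bb r) k0 - vz (2 ^ 21) th * vz (2 ^ 21) (k0 r) ∧
    n1 G * n1 (k1 r) + (dotN (TabE8c.bb r) k0 + n1 th * n1 (k0 r)) < 2 ^ 21 := by decide +kernel

theorem hk3 : ∀ r, vz (2 ^ 21) [1] * vz (2 ^ 21) (k3 r) =
    dotZ (2 ^ 21) (TabE8c.bb r) (fun c => k1 (star c)) - vz (2 ^ 21) th * vz (2 ^ 21) (k1 (star r)) ∧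
    n1 [1] * n1 (k3 r) + (dotN (TabE8c.bb r) (fun c => k1 (star c)) + n1 th * n1 (k1 (star r))) < 2 ^ 21 := by
  decide +kernel

theorem hcong4 : ∀ c, vz (2 ^ 21) [1, 0, 1] * vz (2 ^ 21) (rr4 c) =
    vz (2 ^ 21) (TabE8c.kk c) * vz (2 ^ 21) (k3 c) - vz (2 ^ 21) (lam c) * vz (2 ^ 21) (k3 0) ∧
    n1 [1, 0, 1] * n1 (rr4 c) + (n1 (TabE8c.kk c) * n1 (k3 c) + n1 (lam c) * n1 (k3 0)) < 2 ^ 21 := by
  decide +kernel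

theorem hcong8 : ∀ c, vz (2 ^ 21) [1, 0, 0, 0, 1] * vz (2 ^ 21) (rr8 c) =
    vz (2 ^ 21) (TabE8c.kk c) * vz (2 ^ 21) (k3 c) - vz (2 ^ 21) (lam c) * vz (2 ^ 21) (k3 0) ∧
    n1 [1, 0, 0, 0, 1] * n1 (rr8 c) + (n1 (TabE8c.kk c) * n1 (k3 c) + n1 (lam c) * n1 (k3 0)) < 2 ^ 21 := by
  decide +kernel

theorem hunit4 : pEq (pMul s4 (k3 0)) (pAdd [6] (pMul [1, 0, 1] t4)) = true := by decide +kernel

theorem hunit8 : pEq (pMul s8 (k3 0)) (pAdd [2] (pMul [1, 0, 0, 0, 1] t8)) = true := by decide +kernel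

theorem hpos : pNV (k3 0) = true := by decide +kernel

theorem hG : pPos G = true := by decide +kernel

/-! ### the values -/

section Val

variable {x : ℕ} {f : Fin 5 → ℚ} {r : ℚ}

theorem Wv_eq (hf : ∀ c, f c = r * ev x (TabE8a.c2.nu c)) (s : Fin 240) : Wv x f s = r * ev x (W7 s) := by
  rw [Wv, Tab.tau, W7, ev_pAdd]
  split_ifs with h
  · rw [ev_pAdd, ev_pMul, ev_cons, ev_cons, ev_nil, hf, hf]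
    push_cast
    ring
  · rw [ev_cons, hf, hf]
    push_cast
    ring

/-- `W` does not depend on the line -/
theorem Wv_st (hf : ∀ c, f c = r * ev x (TabE8a.c2.nu c)) {i : Fin 8} (hi : i ≠ 6) (s : Fin 240) :
    Wv x f (TabE8a.tab.st i s) = Wv x f s := by
  rw [Wv_eq hf, Wv_eq hf, ev_of_pEq (x : ℚ) (W7_st i hi s)]

theorem k0v_eq (hf : ∀ c, f c = r * ev x (TabE8a.c2.nu c)) (c : Fin 26) : k0v x f c = r * ev x (k0 c) := by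
  rw [k0v, Wv_eq hf, Wv_eq hf, ← ev_of_pEq (x : ℚ) (hk0 c), ev_pAdd, ev_cons]
  push_cast
  ring

theorem k1v_eq (hf : ∀ c, f c = r * ev x (TabE8a.c2.nu c)) (c : Fin 26) : k1v x f c = r * ev x G * ev x (k1 c) := by
  have h1 : k0v x f = fun d => r * ev (x : ℚ) (k0 d) := funext (k0v_eq hf)
  rw [k1v, h1, opv_smul, opv, show TabE8c.data.bb c = TabE8c.bb c from rfl, lin_of (hk1 c) (x : ℚ), mul_assoc]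

/-- **the values of `(A - θ) K₀ (A - θ)`** -/
theorem k2v_eq (hf : ∀ c, f c = r * ev x (TabE8a.c2.nu c)) (c : Fin 26) : k2v x f c = r * ev x G * ev x (k3 c) := by
  have h1 : (fun d => k1v x f (star d)) = fun d => (r * ev (x : ℚ) G) * ev (x : ℚ) (k1 (star d)) :=
    funext fun d => k1v_eq hf _
  rw [k2v, h1, opv_smul, opv, show TabE8c.data.bb c = TabE8c.bb c from rfl, lin_of (hk3 c) (x : ℚ), ev_cons, ev_nil]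
  push_cast
  ring

theorem k2v_ne (hf : ∀ c, f c = r * ev x (TabE8a.c2.nu c)) (hr : r ≠ 0) (hx : 2 ≤ x) : k2v x f 0 ≠ 0 := by
  have hx' : (2 : ℚ) ≤ (x : ℚ) := by exact_mod_cast hx
  rw [k2v_eq hf]
  exact mul_ne_zero (mul_ne_zero hr (ev_pos hx' hG).ne') (ev_nv hx' hpos)

/-- the congruences modulo a polynomial -/
theorem cong_of (hf : ∀ c, f c = r * ev x (TabE8a.c2.nu c)) (hr : r ≠ 0) (hx : 2 ≤ x) {P s t : List ℤ} {N : ℤ}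
    {rr : Fin 26 → List ℤ}
    (hc : ∀ c, ev (x : ℚ) (TabE8c.kk c) * ev x (k3 c) - ev x (lam c) * ev x (k3 0) = ev x P * ev x (rr c))
    (hu : ev (x : ℚ) s * ev x (k3 0) = N + ev x P * ev x t) {p : ℕ} (hN : ¬ (p : ℤ) ∣ N)
    (hd : (p : ℤ) ∣ evZ x P) {a : Fin 26 → ℚ}
    (ha : ∀ c, ev x (TabE8c.data.kk c) * a c = ev x (lam c)) (c : Fin 26) :
    ∃ u v : ℤ, ¬ (p : ℤ) ∣ v ∧ v * (ev x (TabE8c.data.kk c) * (k2v x f c / k2v x f 0 - a c)) = p * u := by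
  have hx' : (2 : ℚ) ≤ (x : ℚ) := by exact_mod_cast hx
  obtain ⟨w, hw⟩ := hd
  have h3 := ev_nv hx' hpos
  refine ⟨w * evZ x (rr c), evZ x (k3 0), ?_, ?_⟩
  · intro h4
    have h2 : evZ x s * evZ x (k3 0) = N + evZ x P * evZ x t := by
      have g1 := evZ_cast x s
      have g2 := evZ_cast x (k3 0)
      have g3 := evZ_cast x P
      have g4 := evZ_cast x t
      push_cast at g1 g2 g3 g4 hu
      have h5 : ((evZ x s * evZ x (k3 0) : ℤ) : ℚ) = ((N + evZ x P * evZ x t : ℤ) : ℚ) := by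
        push_cast
        rw [g1, g2, g3, g4, hu]
      exact_mod_cast h5
    apply hN
    have h6 : N = evZ x s * evZ x (k3 0) - evZ x P * evZ x t := by rw [h2]; ring
    rw [h6, hw]
    exact dvd_sub (h4.mul_left _) ((dvd_mul_right _ _).mul_right _)
  · have h1 := hc c
    have e1 := evZ_cast x (k3 0)
    have e2 := evZ_cast x (rr c)
    have e3 := evZ_cast x P
    push_cast at e1 e2 e3
    rw [hw] at e3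
    push_cast at e3
    have h4 : k2v x f c / k2v x f 0 = ev x (k3 c) / ev x (k3 0) := by
      rw [k2v_eq hf, k2v_eq hf, mul_div_mul_left _ _ (mul_ne_zero hr (ev_pos hx' hG).ne')]
    have h5 : ev (x : ℚ) (TabE8c.data.kk c) = ev x (TabE8c.kk c) := rfl
    push_cast
    rw [e1, e2, h4, mul_sub, ha, h5, ← mul_assoc (p : ℚ), e3, ← h1]
    field_simp

/-- **The congruences modulo `Φ₄`.** -/
theorem cong4 (hf : ∀ c, f c = r * ev x (TabE8a.c2.nu c)) (hr : r ≠ 0) (hx : 2 ≤ x) {p : ℕ}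
    (hN : ¬ (p : ℤ) ∣ 6) (hd : (p : ℤ) ∣ evZ x [1, 0, 1]) {a : Fin 26 → ℚ}
    (ha : ∀ c, ev x (TabE8c.data.kk c) * a c = ev x (lam c)) (c : Fin 26) :
    ∃ u v : ℤ, ¬ (p : ℤ) ∣ v ∧ v * (ev x (TabE8c.data.kk c) * (k2v x f c / k2v x f 0 - a c)) = p * u := by
  refine cong_of hf hr hx (P := [1, 0, 1]) (s := s4) (t := t4) (N := 6) (rr := rr4) (fun c => mul_of (hcong4 c) (x : ℚ)) ?_ hN hd ha c
  have h1 := ev_of_pEq (x : ℚ) hunit4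
  rw [ev_pMul, ev_pAdd, ev_pMul] at h1
  rw [h1, ev_cons, ev_nil, mul_zero, add_zero]

/-- **The congruences modulo `Φ₈`.** -/
theorem cong8 (hf : ∀ c, f c = r * ev x (TabE8a.c2.nu c)) (hr : r ≠ 0) (hx : 2 ≤ x) {p : ℕ}
    (hN : ¬ (p : ℤ) ∣ 2) (hd : (p : ℤ) ∣ evZ x [1, 0, 0, 0, 1]) {a : Fin 26 → ℚ}
    (ha : ∀ c, ev x (TabE8c.data.kk c) * a c = ev x (lam c)) (c : Fin 26) :
    ∃ u v : ℤ, ¬ (p : ℤ) ∣ v ∧ v * (ev x (TabE8c.data.kk c) * (k2v x f c / k2v x f 0 - a c)) = p * u := by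
  refine cong_of hf hr hx (P := [1, 0, 0, 0, 1]) (s := s8) (t := t8) (N := 2) (rr := rr8) (fun c => mul_of (hcong8 c) (x : ℚ)) ?_ hN hd ha c
  have h1 := ev_of_pEq (x : ℚ) hunit8
  rw [ev_pMul, ev_pAdd, ev_pMul] at h1
  rw [h1, ev_cons, ev_nil, mul_zero, add_zero]

end Val

end Cfsg.Agent.H739.PQ.E8L.LinkZ
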